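import Cfsg.Agent.Lib.Sporadic.RuLevels

/-! Kernel checks of the generators. -/

set_option autoImplicit false
set_option maxRecDepth 20000

namespace CfsgLib.Sporadic.RuMod.Valid

open Data

theorem facts : genFacts = true := by decide +kernel

theorem vMat_bits : ∀ i a : Fin 28,
    vMat.testBit (28 * a.val + i.val) = (mpow (g0Gen.getD 0 0) i).testBit (28 * a.val) := by decide +kernel

theorem mCode_bits : ∀ a : Fin 28, mCode.testBit (28 * a.val) = false := by decide +kernel

theorem qMat_bits : ∀ a b : Fin 28,
    qMat.testBit (28 * a.val + b.val) = (decide (a = b) && decide (a ≠ 0)) := by decide +kernel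

end CfsgLib.Sporadic.RuMod.Valid
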