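import Cfsg.Agent.Lib.Sporadic.RuLevels

/-! Kernel checks of a level. -/

set_option autoImplicit false
set_option maxRecDepth 20000

namespace CfsgLib.Sporadic.RuMod.Valid

theorem g0_par : forallLt g0.n g0.parOK = true := by decide +kernel

theorem g0_srt : forallLt g0.n g0.srtOK = true := by decide +kernel

theorem g0_edge : forallLt (g0.n * g0.gen.length) (g0.edgeOK [g1, g2, g3, g4]) = true := by decide +kernel

theorem g0_base : g0.baseOK [g1, g2, g3, g4] = true := by decide +kernel

end CfsgLib.Sporadic.RuMod.Valid
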