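import Cfsg.Agent.Lib.Sporadic.RuLevels

/-! Kernel checks of a level. -/

set_option autoImplicit false
set_option maxRecDepth 20000

namespace CfsgLib.Sporadic.RuMod.Valid

theorem g2_par : forallLt g2.n g2.parOK = true := by decide +kernel

theorem g2_srt : forallLt g2.n g2.srtOK = true := by decide +kernel

theorem g2_edge : forallLt (g2.n * g2.gen.length) (g2.edgeOK [g3, g4]) = true := by decide +kernel

theorem g2_base : g2.baseOK [g3, g4] = true := by decide +kernel

end CfsgLib.Sporadic.RuMod.Valid
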