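import Cfsg.Agent.Lib.Sporadic.RuLevels

/-! Kernel checks of a level. -/

set_option autoImplicit false
set_option maxRecDepth 20000

namespace CfsgLib.Sporadic.RuMod.Valid

theorem g3_par : forallLt g3.n g3.parOK = true := by decide +kernel

theorem g3_srt : forallLt g3.n g3.srtOK = true := by decide +kernel

theorem g3_edge : forallLt (g3.n * g3.gen.length) (g3.edgeOK [g4]) = true := by decide +kernel

theorem g3_base : g3.baseOK [g4] = true := by decide +kernel

end CfsgLib.Sporadic.RuMod.Valid
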