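import Cfsg.Agent.Lib.Sporadic.RuLevels

/-! Kernel checks of a level. -/

set_option autoImplicit false
set_option maxRecDepth 20000

namespace CfsgLib.Sporadic.RuMod.Valid

theorem g4_par : forallLt g4.n g4.parOK = true := by decide +kernel

theorem g4_srt : forallLt g4.n g4.srtOK = true := by decide +kernel

theorem g4_edge : forallLt (g4.n * g4.gen.length) (g4.edgeOK []) = true := by decide +kernel

theorem g4_base : g4.baseOK [] = true := by decide +kernel

end CfsgLib.Sporadic.RuMod.Valid
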