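import Cfsg.Agent.Lib.Sporadic.RuLevels

/-! Kernel checks of a Sylow subgroup. -/

set_option autoImplicit false
set_option maxRecDepth 20000

namespace CfsgLib.Sporadic.RuMod.Valid

theorem syl3_el : forallLt syl3.size syl3.elOK = true := by decide +kernel

theorem syl3_tr : forallLt (syl3.size * syl3.gen.length) syl3.trOK = true := by decide +kernel

theorem syl3_wit : forallLt syl3.size syl3.witOK = true := by decide +kernel

theorem syl3_base : syl3.baseOK = true := by decide +kernel

end CfsgLib.Sporadic.RuMod.Valid
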