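import Cfsg.Agent.Lib.Sporadic.RuLevels

/-! Kernel checks of a level. -/

set_option autoImplicit false
set_option maxRecDepth 20000

namespace CfsgLib.Sporadic.RuMod.Valid

theorem t0_par : forallLt t0.n t0.parOK = true := by decide +kernel

theorem t0_srt : forallLt t0.n t0.srtOK = true := by decide +kernel

theorem t0_edge : forallLt (t0.n * t0.gen.length) (t0.edgeOK [t1, t2, t3]) = true := by decide +kernel

theorem t0_base : t0.baseOK [t1, t2, t3] = true := by decide +kernel

end CfsgLib.Sporadic.RuMod.Valid
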