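import Cfsg.Agent.Lib.Sporadic.RuLevels

/-! Kernel checks of a level. -/

set_option autoImplicit false
set_option maxRecDepth 20000

namespace CfsgLib.Sporadic.RuMod.Valid

theorem t1_par : forallLt t1.n t1.parOK = true := by decide +kernel

theorem t1_srt : forallLt t1.n t1.srtOK = true := by decide +kernel

theorem t1_edge : forallLt (t1.n * t1.gen.length) (t1.edgeOK [t2, t3]) = true := by decide +kernel

theorem t1_base : t1.baseOK [t2, t3] = true := by decide +kernel

end CfsgLib.Sporadic.RuMod.Valid
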