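import Cfsg.Agent.Lib.Sporadic.RuLevels

/-! Kernel checks of a level. -/

set_option autoImplicit false
set_option maxRecDepth 20000

namespace CfsgLib.Sporadic.RuMod.Valid

theorem t2_par : forallLt t2.n t2.parOK = true := by decide +kernel

theorem t2_srt : forallLt t2.n t2.srtOK = true := by decide +kernel

theorem t2_edge : forallLt (t2.n * t2.gen.length) (t2.edgeOK [t3]) = true := by decide +kernel

theorem t2_base : t2.baseOK [t3] = true := by decide +kernel

end CfsgLib.Sporadic.RuMod.Valid
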