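import Cfsg.Agent.Lib.Sporadic.RuLevels

/-! Kernel checks of a level. -/

set_option autoImplicit false
set_option maxRecDepth 20000

namespace CfsgLib.Sporadic.RuMod.Valid

theorem t3_par : forallLt t3.n t3.parOK = true := by decide +kernel

theorem t3_srt : forallLt t3.n t3.srtOK = true := by decide +kernel

theorem t3_edge : forallLt (t3.n * t3.gen.length) (t3.edgeOK []) = true := by decide +kernel

theorem t3_base : t3.baseOK [] = true := by decide +kernel

end CfsgLib.Sporadic.RuMod.Valid
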