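import Cfsg.Agent.Lib.Sporadic.RuLevels

/-! Kernel checks of a Sylow subgroup. -/

set_option autoImplicit false
set_option maxRecDepth 20000

namespace CfsgLib.Sporadic.RuMod.Valid

theorem syl2_el : forallLt syl2.size syl2.elOK = true := by decide +kernel

theorem syl2_tr : forallLt (syl2.size * syl2.gen.length) syl2.trOK = true := by decide +kernel

theorem syl2_wit : forallLt syl2.size syl2.witOK = true := by decide +kernel

theorem syl2_base : syl2.baseOK = true := by decide +kernel

end CfsgLib.Sporadic.RuMod.Valid
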